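import Mathlib

/-!
# The top of the adjoint representation of a simple Lie algebra

For a simple Lie algebra with Chevalley generators and a root `ρ` which no simple root can raise,
the adjoint representation is spanned by lowerings of the root vector, so every weight is `ρ` minus
a combination of simple roots, and only `ρ` is killed by all raising operators.
-/

noncomputable section

open LieAlgebra LieModule Module

namespace Groth.Agent.AdjVarX

universe u v w

variable {ι : Type u} {K : Type v} {L : Type w} [Fintype ι] [Field K] [CharZero K]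
  [IsAlgClosed K] [LieRing L] [LieAlgebra K L] [FiniteDimensional K L] [LieAlgebra.IsSimple K L]
  {H : LieSubalgebra K L} [H.IsCartanSubalgebra] (b : LieAlgebra.Basis ι H)

local notation "α" => LieAlgebra.Basis.baseSupp b

/-- A weight space as a submodule. -/
abbrev Wt (μ : Dual K H) : Submodule K L := (rootSpace H (μ : H → K) : Submodule K L)

theorem lie_eq {μ : Dual K H} {x : L} (hx : x ∈ Wt μ) (h : H) : ⁅(h : L), x⁆ = μ h • x :=
  LieAlgebra.IsKilling.lie_eq_smul_of_mem_rootSpace hx h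

theorem lie_mem {μ ν : Dual K H} {x y : L} (hx : x ∈ Wt μ) (hy : y ∈ Wt ν) :
    ⁅x, y⁆ ∈ Wt (μ + ν) :=
  lie_mem_genWeightSpace_of_mem_genWeightSpace (χ₁ := (μ : H → K)) (χ₂ := (ν : H → K)) hx hy

theorem mem_of_eigen {μ : Dual K H} {x : L} (hx : ∀ h : H, ⁅(h : L), x⁆ = μ h • x) : x ∈ Wt μ := by
  change x ∈ rootSpace H (μ : H → K)
  rw [rootSpace, mem_genWeightSpace]
  exact fun h => ⟨1, by simp [hx]⟩

theorem e_mem (i : ι) : b.e i ∈ Wt (α i) :=
  mem_of_eigen fun h => (b.baseSupp_apply_smul_e i h).symm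

theorem f_mem (i : ι) : b.f i ∈ Wt (-α i) :=
  mem_of_eigen fun h => by
    rw [LinearMap.neg_apply, neg_smul, b.baseSupp_apply_smul_f, neg_neg]
    rfl

theorem eq_of_mem {μ ν : Dual K H} {x : L} (hμ : x ∈ Wt μ) (hν : x ∈ Wt ν) (hx : x ≠ 0) :
    μ = ν := by
  ext h
  exact smul_left_injective K hx ((lie_eq hμ h).symm.trans (lie_eq hν h))

open scoped Classical in
/-- Lowerings of a vector, indexed by the multiplicities of the lowering operators. -/
inductive Low (v : L) : (ι → ℕ) → L → Prop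
  | base : Low v 0 v
  | step {n : ι → ℕ} {x : L} (i : ι) :
      Low v n x → Low v (n + Pi.single i 1) ⁅b.f i, x⁆

/-- The weight `μ - Σ nᵢ αᵢ`. -/
def drop (μ : Dual K H) (n : ι → ℕ) : Dual K H := μ - ∑ i, (n i : K) • α i

theorem drop_zero (μ : Dual K H) : drop b μ 0 = μ := by simp [drop]

theorem drop_single [DecidableEq ι] (μ : Dual K H) (n : ι → ℕ) (i : ι) :
    drop b μ (n + Pi.single i 1) = drop b μ n - α i := by
  simp only [drop, Pi.add_apply, Nat.cast_add, add_smul, Finset.sum_add_distrib]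
  rw [Finset.sum_eq_single i (f := fun l => ((Pi.single i 1 : ι → ℕ) l : K) • α l)]
  · rw [Pi.single_eq_same, Nat.cast_one, one_smul, sub_sub]
  · intro l _ hl; simp [Pi.single_eq_of_ne hl]
  · simp

theorem drop_inj {μ : Dual K H} {n m : ι → ℕ} (h : drop b μ n = drop b μ m) : n = m := by
  funext i
  have := Fintype.linearIndependent_iffₛ.mp b.linearIndependent_baseSupp
    (fun i => (n i : K)) (fun i => (m i : K)) (sub_right_injective h) i
  exact_mod_cast this

theorem low_mem {μ : Dual K H} {v : L} (hv : v ∈ Wt μ) {n : ι → ℕ} {x : L} (hx : Low b v n x) :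
    x ∈ Wt (drop b μ n) := by
  induction hx with
  | base => rwa [drop_zero]
  | step i _ ih =>
    rw [drop_single, sub_eq_neg_add]
    exact lie_mem (f_mem b i) ih

theorem cartan_le_span (x : L) (hx : x ∈ H) :
    x ∈ Submodule.span K (Set.range b.h) := by
  rwa [← LieSubalgebra.mem_toSubmodule, b.coe_cartan_eq_span] at hx

/-- The lowerings of a vector killed by all raising operators span everything. -/
theorem span_low_eq_top {μ : Dual K H} {v : L} (hv : v ∈ Wt μ) (hv0 : v ≠ 0)
    (he : ∀ i, ⁅b.e i, v⁆ = 0) :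
    Submodule.span K {x | ∃ n, Low b v n x} = ⊤ := by
  classical
  set S := Submodule.span K {x | ∃ n, Low b v n x} with hS
  have hgen : ∀ (i : ι) (n : ι → ℕ) (x : L), Low b v n x →
      ⁅b.e i, x⁆ ∈ S ∧ ⁅b.f i, x⁆ ∈ S := by
    intro i n x hx
    refine ⟨?_, Submodule.subset_span ⟨_, hx.step i⟩⟩
    induction hx with
    | base => rw [he]; exact zero_mem _
    | @step m y l hy ih =>
      rw [leibniz_lie]
      refine add_mem ?_ ?_
      · by_cases hil : i = l
        · subst hil
          rw [(b.sl2 i).lie_e_f]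
          have := lie_eq (low_mem b hv hy) (b.h' i)
          change ⁅(b.h' i : L), y⁆ ∈ S
          rw [this]
          exact Submodule.smul_mem _ _ (Submodule.subset_span ⟨m, hy⟩)
        · rw [b.lie_e_f_ne i l hil, zero_lie]; exact zero_mem _
      · have key : ∀ z ∈ S, ⁅b.f l, z⁆ ∈ S := fun z hz => by
          induction hz using Submodule.span_induction with
          | mem z hz => obtain ⟨q, hq⟩ := hz; exact Submodule.subset_span ⟨_, hq.step l⟩
          | zero => rw [lie_zero]; exact zero_mem _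
          | add z z' _ _ hz hz' => rw [lie_add]; exact add_mem hz hz'
          | smul c z _ hz => rw [lie_smul]; exact Submodule.smul_mem _ c hz
        exact key _ ih
  have hall : ∀ x : L, ∀ z ∈ S, ⁅x, z⁆ ∈ S := by
    intro x
    have hx : x ∈ LieSubalgebra.lieSpan K L (Set.range b.e ∪ Set.range b.f) := by
      rw [b.span_ef]; trivial
    induction hx using LieSubalgebra.lieSpan_induction with
    | mem x hx =>
      intro z hz
      induction hz using Submodule.span_induction with
      | mem z hz =>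
        obtain ⟨q, hq⟩ := hz
        rcases hx with ⟨i, rfl⟩ | ⟨i, rfl⟩
        · exact (hgen i q z hq).1
        · exact (hgen i q z hq).2
      | zero => rw [lie_zero]; exact zero_mem _
      | add z z' _ _ hz hz' => rw [lie_add]; exact add_mem hz hz'
      | smul c z _ hz => rw [lie_smul]; exact Submodule.smul_mem _ c hz
    | zero => intro z _; rw [zero_lie]; exact zero_mem _
    | add x y _ _ hx hy => intro z hz; rw [add_lie]; exact add_mem (hx z hz) (hy z hz)
    | smul c x _ hx => intro z hz; rw [smul_lie]; exact Submodule.smul_mem _ c (hx z hz)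
    | lie x y _ _ hx hy =>
      intro z hz; rw [lie_lie]; exact sub_mem (hx _ (hy z hz)) (hy _ (hx z hz))
  let I : LieIdeal K L := { S with lie_mem := fun {x m} hm => hall x m hm }
  rcases IsSimple.eq_bot_or_eq_top I with h | h
  · have hv' : v ∈ I := Submodule.subset_span ⟨0, .base⟩
    rw [h, LieSubmodule.mem_bot] at hv'
    exact absurd hv' hv0
  · refine eq_top_iff.mpr fun x _ => ?_
    have hx' : x ∈ (⊤ : LieIdeal K L) := trivial
    rw [← h] at hx'
    exact hx'

theorem exists_drop_eq {μ ν : Dual K H} {v x : L} (hv : v ∈ Wt μ) (hv0 : v ≠ 0)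
    (he : ∀ i, ⁅b.e i, v⁆ = 0) (hx : x ∈ Wt ν) (hx0 : x ≠ 0) : ∃ n, ν = drop b μ n := by
  by_contra hn
  push Not at hn
  let s : Set (H → K) := {χ | ∃ n, χ = (drop b μ n : H → K)}
  have hd : Disjoint (rootSpace H (ν : H → K)) (⨆ χ ∈ s, rootSpace H χ) :=
    (iSupIndep_genWeightSpace K H L).disjoint_biSup fun ⟨n, h⟩ => hn n (DFunLike.coe_injective h)
  suffices hx' : x ∈ ⨆ χ ∈ s, rootSpace H χ by
    have hm : x ∈ rootSpace H (ν : H → K) ⊓ ⨆ χ ∈ s, rootSpace H χ := ⟨hx, hx'⟩
    rw [hd.eq_bot, LieSubmodule.mem_bot] at hm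
    exact hx0 hm
  have : x ∈ Submodule.span K {x | ∃ n, Low b v n x} := by
    rw [span_low_eq_top b hv hv0 he]; trivial
  clear hx hx0
  induction this using Submodule.span_induction with
  | mem z hz =>
    obtain ⟨n, hn'⟩ := hz
    exact LieSubmodule.mem_iSup_of_mem _ (LieSubmodule.mem_iSup_of_mem ⟨n, rfl⟩ (low_mem b hv hn'))
  | zero => exact zero_mem _
  | add z z' _ _ hz hz' => exact add_mem hz hz'
  | smul c z _ hz => exact SMulMemClass.smul_mem c hz

/-- A root which no simple root can raise, with exactly one simple root `α j` not orthogonal to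
it, which pairs to `1`. -/
structure Top (ρ : Dual K H) (j : ι) : Prop where
  ne_bot : rootSpace H (ρ : H → K) ≠ ⊥
  top : ∀ i, rootSpace H ((ρ + α i : Dual K H) : H → K) = ⊥
  orth : ∀ i, ρ (b.h' i) ≠ 0 ↔ i = j
  pair : ρ (b.h' j) = 1

variable {b} {ρ : Dual K H} {j : ι}

theorem Top.rho_ne (T : Top b ρ j) : ρ ≠ 0 := fun h => by simpa [h] using T.pair

theorem Top.eq_zero_of_mem (T : Top b ρ j) {i : ι} {x : L} (hx : x ∈ Wt (ρ + α i)) : x = 0 := by
  have : x ∈ rootSpace H ((ρ + α i : Dual K H) : H → K) := hx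
  rwa [T.top i, LieSubmodule.mem_bot] at this

theorem Top.exists_ne (T : Top b ρ j) : ∃ v ∈ Wt ρ, v ≠ (0 : L) :=
  (Submodule.ne_bot_iff _).mp fun h => T.ne_bot ((LieSubmodule.toSubmodule_eq_bot _).mp h)

theorem Top.e_lie (T : Top b ρ j) {v : L} (hv : v ∈ Wt ρ) (i : ι) : ⁅b.e i, v⁆ = 0 :=
  T.eq_zero_of_mem (by rw [add_comm]; exact lie_mem (e_mem b i) hv)

/-- Every weight is `ρ` minus simple roots. -/
theorem Top.exists_drop (T : Top b ρ j) {ν : Dual K H} {x : L} (hx : x ∈ Wt ν) (hx0 : x ≠ 0) :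
    ∃ n, ν = drop b ρ n := by
  obtain ⟨v, hv, hv0⟩ := T.exists_ne
  exact exists_drop_eq b hv hv0 (T.e_lie hv) hx hx0

/-- Only `ρ` is killed by all raising operators. -/
theorem Top.eq_of_killed (T : Top b ρ j) {μ : Dual K H} {v : L} (hv : v ∈ Wt μ) (hv0 : v ≠ 0)
    (he : ∀ i, ⁅b.e i, v⁆ = 0) : μ = ρ := by
  obtain ⟨w, hw, hw0⟩ := T.exists_ne
  obtain ⟨m, hm⟩ := exists_drop_eq b hv hv0 he hw hw0
  obtain ⟨n, hn⟩ := T.exists_drop hv hv0
  have h : drop b ρ (n + m) = drop b ρ 0 := by
    rw [drop_zero]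
    conv_rhs => rw [hm, hn]
    simp only [drop, Pi.add_apply, Nat.cast_add, add_smul, Finset.sum_add_distrib, sub_sub]
  have h0 := drop_inj b h
  have : n = 0 := funext fun i => by
    have := congrFun h0 i; simp only [Pi.add_apply, Pi.zero_apply] at this ⊢; omega
  rw [hn, this, drop_zero]

theorem finrank_wt {μ : Dual K H} (hμ : μ ≠ 0) {x : L} (hx : x ∈ Wt μ) (hx0 : x ≠ 0) :
    finrank K (Wt μ) = 1 := by
  let a : Weight K H L := ⟨(μ : H → K), fun h =>
    hx0 (by
      have h' : x ∈ genWeightSpace L (μ : H → K) := hx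
      rwa [h, LieSubmodule.mem_bot] at h')⟩
  exact LieAlgebra.IsKilling.finrank_rootSpace_eq_one a fun h =>
    hμ (DFunLike.coe_injective h)

theorem eq_span {μ : Dual K H} (hμ : μ ≠ 0) {x : L} (hx : x ∈ Wt μ) (hx0 : x ≠ 0) :
    Wt μ = Submodule.span K {x} :=
  eq_span_singleton_of_mem_of_finrank_eq_one (finrank_wt hμ hx hx0) hx hx0

/-- Elements of a weight space orthogonal to the opposite weight space vanish. -/
theorem eq_zero_of_killing {μ : Dual K H} {x : L} (hx : x ∈ Wt μ)
    (h : ∀ u ∈ Wt (-μ), killingForm K L x u = 0) : x = 0 := by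
  have hk : x ∈ LinearMap.ker (killingForm K L) :=
    LieAlgebra.mem_ker_killingForm_of_mem_rootSpace_of_forall_rootSpace_neg K L H hx
      fun y hy => h y hy
  rwa [LieAlgebra.IsKilling.ker_killingForm_eq_bot, Submodule.mem_bot] at hk

theorem killing_lie (x y z : L) : killingForm K L ⁅x, y⁆ z = - killingForm K L y ⁅x, z⁆ :=
  LieModule.traceForm_apply_lie_apply' K L L x y z

theorem neg_wt_eq_bot {μ : Dual K H} (h : ∀ x ∈ Wt μ, x = 0) : ∀ u ∈ Wt (-μ), u = (0 : L) :=
  fun u hu => eq_zero_of_killing hu fun y hy => by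
    rw [neg_neg] at hy
    rw [h y hy, map_zero]

/-- A vector killed by a lowering operator, of weight `-n`, is killed by its `n + 1`st raising. -/
theorem pow_e_eq_zero {σ : Dual K H} {u : L} (hu : u ∈ Wt σ) (i : ι) (hf : ⁅b.f i, u⁆ = 0) {n : ℕ}
    (hn : σ (b.h' i) = -(n : K)) : ((LieAlgebra.ad K L (b.e i)) ^ (n + 1)) u = 0 := by
  rcases eq_or_ne u 0 with rfl | hu0
  · exact map_zero _
  have P : (b.sl2 i).symm.HasPrimitiveVectorWith u (n : K) :=
    { ne_zero := hu0
      lie_h := by
        have h := lie_eq hu (b.h' i)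
        change ⁅b.h i, u⁆ = _ at h
        rw [neg_lie, h, hn, neg_smul, neg_neg]
      lie_e := hf }
  exact P.pow_toEnd_f_eq_zero_of_eq_nat rfl

/-- A nonzero vector killed by a lowering operator, of weight `-n`, survives `n` raisings. -/
theorem pow_e_ne_zero {σ : Dual K H} {u : L} (hu : u ∈ Wt σ) (hu0 : u ≠ 0) (i : ι)
    (hf : ⁅b.f i, u⁆ = 0) {n : ℕ} (hn : σ (b.h' i) = -(n : K)) :
    ((LieAlgebra.ad K L (b.e i)) ^ n) u ≠ 0 := by
  have P : (b.sl2 i).symm.HasPrimitiveVectorWith u (n : K) :=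
    { ne_zero := hu0
      lie_h := by
        have h := lie_eq hu (b.h' i)
        change ⁅b.h i, u⁆ = _ at h
        rw [neg_lie, h, hn, neg_smul, neg_neg]
      lie_e := hf }
  exact P.pow_toEnd_f_ne_zero_of_eq_nat rfl le_rfl

/-- If `σ` is orthogonal to `αᵢ` and cannot be raised by it, raising into `σ` is zero. -/
theorem e_lie_eq_zero {σ : Dual K H} (i : ι) (h0 : σ (b.h' i) = 0)
    (htop : ∀ x ∈ Wt (σ + α i), x = (0 : L)) {w : L} (hw : w ∈ Wt (σ - α i)) : ⁅b.e i, w⁆ = 0 := by
  refine eq_zero_of_killing (μ := σ) (by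
    have := lie_mem (e_mem b i) hw
    rwa [add_sub_cancel] at this) fun u hu => ?_
  have hf : ⁅b.f i, u⁆ = 0 := neg_wt_eq_bot htop _ (by
    have := lie_mem (f_mem b i) hu
    rwa [← neg_add_rev] at this)
  have := pow_e_eq_zero hu i hf (n := 0) (by simp [h0])
  rw [zero_add, pow_one] at this
  rw [killing_lie, show ⁅b.e i, u⁆ = 0 from this, map_zero, neg_zero]

end Groth.Agent.AdjVarX
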