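import Mathlib
import Groth.Agent.AdjVarX.Highest

/-!
# Small Borel-stable subspaces of a simple Lie algebra outside types A and C
-/

noncomputable section

open LieAlgebra LieModule Module

namespace Groth.Agent.AdjVarX

universe u v w

variable {ι : Type u} {K : Type v} {L : Type w} [Fintype ι] [Field K] [CharZero K]
  [IsAlgClosed K] [LieRing L] [LieAlgebra K L] [FiniteDimensional K L] [LieAlgebra.IsSimple K L]
  {H : LieSubalgebra K L} [H.IsCartanSubalgebra] {b : LieAlgebra.Basis ι H}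
  {ρ : Dual K H} {j : ι}

local notation "α" => LieAlgebra.Basis.baseSupp b

open scoped Classical in
theorem raise_eq_zero (T : Top b ρ j) (n : ι → ℕ) {l : ι} (hl : n l = 0) {x : L}
    (hx : x ∈ Wt (drop b ρ n + α l)) : x = 0 := by
  by_contra hx0
  obtain ⟨m, hm⟩ := T.exists_drop hx hx0
  have : drop b ρ (m + Pi.single l 1) = drop b ρ n := by
    rw [drop_single, ← hm, add_sub_cancel_right]
  have := congrFun (drop_inj b this) l
  simp [hl] at this

open scoped Classical in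
/-- The weights `ρ - α j` and `ρ - α j - α i`. -/
theorem drop_one : drop b ρ (Pi.single j 1) = ρ - α j := by
  rw [← zero_add (Pi.single j 1 : ι → ℕ), drop_single, drop_zero]

theorem Top.apply_h_j (T : Top b ρ j) : (ρ - α j) (b.h' j) = -1 := by
  have : IsAddTorsionFree L := IsAddTorsionFree.of_isTorsionFree K L
  rw [LinearMap.sub_apply, T.pair, b.baseSupp_apply_h', b.A_diag_eq_two]
  norm_num

/-- The vector of weight `ρ - α j`. -/
theorem Top.exists_second (T : Top b ρ j) : ∃ v a : L, v ∈ Wt ρ ∧ v ≠ 0 ∧ a ∈ Wt (ρ - α j) ∧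
    a ≠ 0 ∧ ⁅b.e j, a⁆ = v ∧ a = ⁅b.f j, v⁆ := by
  obtain ⟨v, hv, hv0⟩ := T.exists_ne
  have h1 : ⁅b.e j, ⁅b.f j, v⁆⁆ = v := by
    rw [leibniz_lie, (b.sl2 j).lie_e_f, T.e_lie hv, lie_zero, add_zero]
    have := lie_eq hv (b.h' j)
    rw [T.pair, one_smul] at this
    exact this
  refine ⟨v, ⁅b.f j, v⁆, hv, hv0, ?_, fun h => hv0 ?_, h1, rfl⟩
  · rw [sub_eq_neg_add]; exact lie_mem (f_mem b j) hv
  · rw [← h1, h, lie_zero]

open scoped Classical in
theorem Top.rho1_ne (T : Top b ρ j) : ρ - α j ≠ 0 := fun h => by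
  have := T.apply_h_j
  rw [h, LinearMap.zero_apply] at this
  norm_num at this

open scoped Classical in
theorem Top.rho1_ne_rho (T : Top b ρ j) : ρ - α j ≠ ρ := fun h => by
  have := drop_inj b (μ := ρ) (n := Pi.single j 1) (m := 0) (by rw [drop_one, drop_zero, h])
  simpa using congrFun this j

theorem Top.e_lie_second (T : Top b ρ j) {i : ι} (hi : i ≠ j) {w : L} (hw : w ∈ Wt (ρ - α j)) :
    ⁅b.e i, w⁆ = 0 := by
  classical
  refine raise_eq_zero T (Pi.single j 1) (l := i) (Pi.single_eq_of_ne hi _) ?_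
  rw [drop_one, add_comm]
  exact lie_mem (e_mem b i) hw

/-- `ρ - α i` is no root for `i ≠ j`. -/
theorem Top.eq_zero_of_one (T : Top b ρ j) {i : ι} (hi : i ≠ j) {w : L} (hw : w ∈ Wt (ρ - α i)) :
    w = 0 := by
  classical
  by_contra hw0
  have he : ∀ l, ⁅b.e l, w⁆ = 0 := by
    intro l
    by_cases hl : l = i
    · subst hl
      exact e_lie_eq_zero l (not_not.mp fun h => hi ((T.orth l).mp h))
        (fun x hx => T.eq_zero_of_mem hx) hw
    · refine raise_eq_zero T (Pi.single i 1) (l := l) (Pi.single_eq_of_ne hl _) ?_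
      rw [← zero_add (Pi.single i 1 : ι → ℕ), drop_single, drop_zero, add_comm]
      exact lie_mem (e_mem b l) hw
  have h := T.eq_of_killed hw hw0 he
  have := drop_inj b (μ := ρ) (n := Pi.single i 1) (m := 0) (by
    rw [drop_zero, ← zero_add (Pi.single i 1 : ι → ℕ), drop_single, drop_zero, h])
  simpa using congrFun this i

/-- `ρ - 2 α j` is no root. -/
theorem Top.eq_zero_of_double (T : Top b ρ j) {w : L} (hw : w ∈ Wt (ρ - α j - α j)) : w = 0 := by
  classical
  by_contra hw0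
  obtain ⟨v, hv, hv0⟩ := T.exists_ne
  obtain ⟨u, hu, hu0⟩ : ∃ u ∈ Wt (-ρ), u ≠ (0 : L) := by
    by_contra hn
    push Not at hn
    exact hv0 (eq_zero_of_killing hv fun u hu => by rw [hn u hu, map_zero])
  have hfu : ⁅b.f j, u⁆ = 0 := neg_wt_eq_bot (μ := ρ + α j) (fun x hx => T.eq_zero_of_mem hx) _ (by
    have := lie_mem (f_mem b j) hu
    rwa [← neg_add_rev] at this)
  have heu : ⁅b.e j, u⁆ ≠ 0 := fun h => hu0 (by
    have h1 : ⁅b.f j, ⁅b.e j, u⁆⁆ = u := by
      rw [leibniz_lie, ← lie_skew (b.f j) (b.e j), (b.sl2 j).lie_e_f, hfu, lie_zero, add_zero,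
        neg_lie]
      have := lie_eq hu (b.h' j)
      rw [LinearMap.neg_apply, T.pair, neg_one_smul] at this
      change ⁅b.h j, u⁆ = -u at this
      rw [this, neg_neg]
    rw [← h1, h, lie_zero])
  have heu' : ⁅b.e j, u⁆ ∈ Wt (-(ρ - α j)) := by
    have := lie_mem (e_mem b j) hu
    rwa [← sub_eq_add_neg, ← neg_sub ρ (α j)] at this
  have hee : ⁅b.e j, ⁅b.e j, u⁆⁆ = 0 := by
    have := pow_e_eq_zero hu j hfu (n := 1) (by rw [LinearMap.neg_apply, T.pair, Nat.cast_one])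
    rwa [show (1 + 1 : ℕ) = 2 from rfl, pow_two] at this
  have hj : ⁅b.e j, w⁆ = 0 := by
    refine eq_zero_of_killing (μ := ρ - α j) (by
      have := lie_mem (e_mem b j) hw
      rwa [add_sub_cancel] at this) fun y hy => ?_
    rw [eq_span (neg_ne_zero.mpr T.rho1_ne) heu' heu, Submodule.mem_span_singleton] at hy
    obtain ⟨c, rfl⟩ := hy
    rw [map_smul, killing_lie, hee, map_zero, neg_zero, smul_zero]
  have he : ∀ l, ⁅b.e l, w⁆ = 0 := by
    intro l
    by_cases hl : l = j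
    · subst hl; exact hj
    · refine raise_eq_zero T (Pi.single j 1 + Pi.single j 1) (l := l) (by simp [hl]) ?_
      rw [drop_single, drop_one, add_comm]
      exact lie_mem (e_mem b l) hw
  have h := T.eq_of_killed hw hw0 he
  have := drop_inj b (μ := ρ) (n := Pi.single j 1 + Pi.single j 1) (m := 0) (by
    rw [drop_zero, drop_single, drop_one, h])
  simpa using congrFun this j

theorem A_symm_zero {i l : ι} (hil : i ≠ l) (h : b.A i l = 0) : b.A l i = 0 := by
  have hf : ⁅b.f l, b.e i⁆ = 0 := by rw [← lie_skew, b.lie_e_f_ne i l hil, neg_zero]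
  have h0 : ⁅b.e l, b.e i⁆ = 0 := by
    have := pow_e_eq_zero (e_mem b i) l hf (n := 0) (by rw [b.baseSupp_apply_h', h]; simp)
    rwa [zero_add, pow_one] at this
  have h1 : ⁅b.f i, ⁅b.e l, b.e i⁆⁆ = 0 := by rw [h0, lie_zero]
  rw [leibniz_lie, ← lie_skew (b.f i) (b.e l), b.lie_e_f_ne l i hil.symm, neg_zero, zero_lie,
    zero_add, ← lie_skew (b.f i) (b.e i), (b.sl2 i).lie_e_f, lie_neg, ← lie_skew (b.e l) (b.h i),
    neg_neg, b.lie_h_e, ← Int.cast_smul_eq_zsmul K, smul_eq_zero, Int.cast_eq_zero] at h1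
  exact h1.resolve_right (b.sl2 l).e_ne_zero

theorem Top.eq_zero_of_adj (T : Top b ρ j) {i : ι} (hi : i ≠ j) (hA : b.A i j = 0) {w : L}
    (hw : w ∈ Wt (ρ - α j - α i)) : w = 0 := by
  classical
  by_contra hw0
  have he : ∀ l, ⁅b.e l, w⁆ = 0 := by
    intro l
    by_cases hli : l = i
    · subst hli
      refine e_lie_eq_zero l ?_ (fun x hx => raise_eq_zero T (Pi.single j 1) (l := l)
        (Pi.single_eq_of_ne hi _) (by rwa [drop_one])) hw
      rw [LinearMap.sub_apply, not_not.mp fun h => hi ((T.orth l).mp h), b.baseSupp_apply_h',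
        A_symm_zero hi hA]
      simp
    · by_cases hlj : l = j
      · subst hlj
        refine T.eq_zero_of_one hi ?_
        have := lie_mem (e_mem b l) hw
        rwa [add_comm, sub_right_comm, sub_add_cancel] at this
      · refine raise_eq_zero T (Pi.single j 1 + Pi.single i 1) (l := l) (by simp [hli, hlj]) ?_
        rw [drop_single, drop_one, add_comm]
        exact lie_mem (e_mem b l) hw
  have h := T.eq_of_killed hw hw0 he
  have := drop_inj b (μ := ρ) (n := Pi.single j 1 + Pi.single i 1) (m := 0) (by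
    rw [drop_zero, drop_single, drop_one, h])
  simpa using congrFun this i

/-! ### Stable subspaces -/

variable (b) in
/-- Stability under the Borel subalgebra. -/
def Stable (W : Submodule K L) : Prop :=
  ∀ x ∈ H.toSubmodule ⊔ (b.borelUpper : Submodule K L), ∀ w ∈ W, ⁅x, w⁆ ∈ W

theorem Stable.e {W : Submodule K L} (hW : Stable b W) (i : ι) {w : L} (hw : w ∈ W) :
    ⁅b.e i, w⁆ ∈ W :=
  hW _ (Submodule.mem_sup_right (LieSubalgebra.subset_lieSpan ⟨i, rfl⟩)) w hw

theorem stable_of_gen {W : Submodule K L} (hH : ∀ h : H, ∀ w ∈ W, ⁅(h : L), w⁆ ∈ W)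
    (he : ∀ i, ∀ w ∈ W, ⁅b.e i, w⁆ ∈ W) : Stable b W := by
  intro x hx w hw
  obtain ⟨y, hy, z, hz, rfl⟩ := Submodule.mem_sup.mp hx
  rw [add_lie]
  refine add_mem (hH ⟨y, hy⟩ w hw) ?_
  suffices ∀ z ∈ LieSubalgebra.lieSpan K L (Set.range b.e), ∀ w ∈ W, ⁅z, w⁆ ∈ W from this z hz w hw
  intro z hz
  induction hz using LieSubalgebra.lieSpan_induction with
  | mem z hz => obtain ⟨i, rfl⟩ := hz; exact he i
  | zero => intro w _; rw [zero_lie]; exact zero_mem _
  | add x y _ _ hx hy => intro w hw; rw [add_lie]; exact add_mem (hx w hw) (hy w hw)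
  | smul c x _ hx => intro w hw; rw [smul_lie]; exact Submodule.smul_mem _ c (hx w hw)
  | lie x y _ _ hx hy =>
    intro w hw; rw [lie_lie]; exact sub_mem (hx _ (hy w hw)) (hy _ (hx w hw))

theorem Stable.le_span_weight {W : Submodule K L} (hW : Stable b W) :
    W ≤ Submodule.span K {v | v ∈ W ∧ ∃ μ : Dual K H, v ∈ Wt μ} := by
  let WL : LieSubmodule K H L :=
    { W with lie_mem := fun {x m} hm => hW (x : L) (Submodule.mem_sup_left x.2) m hm }
  intro x hx
  have hx' : (⟨x, hx⟩ : WL) ∈ ⨆ χ : H → K, genWeightSpace WL χ := by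
    rw [iSup_genWeightSpace_eq_top K H WL]; trivial
  suffices ∀ y ∈ ⨆ χ : H → K, genWeightSpace WL χ,
      (y : L) ∈ Submodule.span K {v | v ∈ W ∧ ∃ μ : Dual K H, v ∈ Wt μ} from this _ hx'
  intro y hy
  induction hy using LieSubmodule.iSup_induction' with
  | mem χ y hy =>
    rcases eq_or_ne y 0 with rfl | hy0
    · exact zero_mem _
    have hmem : (y : L) ∈ genWeightSpace L χ :=
      map_genWeightSpace_le WL.incl ⟨y, hy, rfl⟩
    let a : Weight K H L := ⟨χ, fun h => hy0 (Subtype.ext ((LieSubmodule.mem_bot _).mp (h ▸ hmem)))⟩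
    exact Submodule.subset_span ⟨y.2, Weight.toLinear K H L a, hmem⟩
  | zero => exact zero_mem _
  | add y z _ _ hy hz => exact add_mem hy hz

/-- A weight vector outside `P` whose raisings lie in `P`. -/
theorem Stable.exists_ext (T : Top b ρ j) {W P : Submodule K L} (hW : Stable b W) (hne : ¬ W ≤ P) :
    ∃ (μ : Dual K H) (v : L), v ∈ W ∧ v ∉ P ∧ v ∈ Wt μ ∧ ∀ i, ⁅b.e i, v⁆ ∈ P := by
  classical
  obtain ⟨v, ⟨hvW, μ, hμ⟩, hvP⟩ : ∃ v ∈ {v | v ∈ W ∧ ∃ μ : Dual K H, v ∈ Wt μ}, v ∉ P := by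
    by_contra hn
    push Not at hn
    exact hne (hW.le_span_weight.trans (Submodule.span_le.mpr hn))
  obtain ⟨n, rfl⟩ := T.exists_drop hμ fun h => hvP (h ▸ zero_mem P)
  suffices key : ∀ (s : ℕ) (n : ι → ℕ) (v : L), v ∈ W → v ∉ P → v ∈ Wt (drop b ρ n) →
      ∑ i, n i = s → ∃ (μ : Dual K H) (v : L), v ∈ W ∧ v ∉ P ∧ v ∈ Wt μ ∧ ∀ i, ⁅b.e i, v⁆ ∈ P from
    key _ n v hvW hvP hμ rfl
  clear hμ hvP hvW v n hne
  intro s
  induction s using Nat.strong_induction_on with
  | _ s ih =>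
    intro n v hvW hvP hμ hs
    by_cases hall : ∀ i, ⁅b.e i, v⁆ ∈ P
    · exact ⟨_, v, hvW, hvP, hμ, hall⟩
    push Not at hall
    obtain ⟨i, hi⟩ := hall
    have hm := lie_mem (e_mem b i) hμ
    obtain ⟨m, hm'⟩ := T.exists_drop hm fun h => hi (h ▸ zero_mem P)
    have hnm : n = m + Pi.single i 1 := drop_inj b (μ := ρ) (by rw [drop_single, ← hm', add_sub_cancel_left])
    refine ih (∑ l, m l) ?_ m _ (hW.e i hvW) hi (hm' ▸ hm) rfl
    rw [← hs, hnm]
    simp [Finset.sum_add_distrib]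

theorem Stable.rho_le (T : Top b ρ j) {W : Submodule K L} (hW : Stable b W) (hne : W ≠ ⊥) :
    Wt ρ ≤ W := by
  obtain ⟨μ, v, hvW, hv0, hμ, he⟩ := hW.exists_ext T (P := ⊥) (by rwa [le_bot_iff])
  rw [Submodule.mem_bot] at hv0
  obtain rfl := T.eq_of_killed hμ hv0 fun i => (Submodule.mem_bot K).mp (he i)
  rw [eq_span T.rho_ne hμ hv0]
  exact (Submodule.span_singleton_le_iff_mem _ _).mpr hvW

theorem Stable.line_le (T : Top b ρ j) {W : Submodule K L} (hW : Stable b W) (hne : W ≠ ⊥)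
    (hne' : ¬ W ≤ Wt ρ) : Wt (ρ - α j) ≤ W := by
  classical
  obtain ⟨μ, v, hvW, hvP, hμ, he⟩ := hW.exists_ext T hne'
  have hv0 : v ≠ 0 := fun h => hvP (h ▸ zero_mem _)
  obtain ⟨i, hi⟩ : ∃ i, ⁅b.e i, v⁆ ≠ 0 := by
    by_contra hn
    push Not at hn
    exact hvP (T.eq_of_killed hμ hv0 hn ▸ hμ)
  have hμ' : μ = ρ - α i := by
    rw [eq_sub_iff_add_eq, add_comm]
    exact eq_of_mem (lie_mem (e_mem b i) hμ) (he i) hi
  obtain rfl : i = j := by
    by_contra hij
    exact hv0 (T.eq_zero_of_one hij (hμ' ▸ hμ))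
  rw [← hμ', eq_span (hμ' ▸ T.rho1_ne) hμ hv0]
  exact (Submodule.span_singleton_le_iff_mem _ _).mpr hvW

theorem Top.finrank_line (T : Top b ρ j) :
    finrank K ↥(Wt ρ ⊔ Wt (ρ - α j) : Submodule K L) = 2 := by
  obtain ⟨v, a, hv, hv0, ha, ha0, -, -⟩ := T.exists_second
  have hd : Wt ρ ⊓ Wt (ρ - α j) = (⊥ : Submodule K L) := by
    refine (Submodule.eq_bot_iff _).mpr fun x ⟨h1, h2⟩ => ?_
    by_contra hx
    exact T.rho1_ne_rho (eq_of_mem h2 h1 hx)
  have := Submodule.finrank_sup_add_finrank_inf_eq (Wt ρ) (Wt (ρ - α j) : Submodule K L)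
  rw [hd, finrank_bot, add_zero, finrank_wt T.rho_ne hv hv0, finrank_wt T.rho1_ne ha ha0] at this
  exact this

theorem twoDim_iff (T : Top b ρ j) (W : Submodule K L) :
    (finrank K W = 2 ∧ Stable b W) ↔ W = Wt ρ ⊔ Wt (ρ - α j) := by
  classical
  obtain ⟨v, a, hv, hv0, ha, ha0, -, -⟩ := T.exists_second
  constructor
  · rintro ⟨h2, hW⟩
    have hne : W ≠ ⊥ := fun h => by rw [h, finrank_bot] at h2; omega
    have hne' : ¬ W ≤ Wt ρ := fun h => by
      have := Submodule.finrank_mono h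
      rw [h2, finrank_wt T.rho_ne hv hv0] at this
      omega
    exact (Submodule.eq_of_le_of_finrank_eq (sup_le (hW.rho_le T hne) (hW.line_le T hne hne'))
      (by rw [T.finrank_line, h2])).symm
  · rintro rfl
    refine ⟨T.finrank_line, stable_of_gen (fun h w hw => ?_) fun i w hw => ?_⟩ <;>
      obtain ⟨x, hx, y, hy, rfl⟩ := Submodule.mem_sup.mp hw <;> rw [lie_add]
    · rw [lie_eq hx, lie_eq hy]
      exact add_mem (Submodule.mem_sup_left (Submodule.smul_mem _ _ hx))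
        (Submodule.mem_sup_right (Submodule.smul_mem _ _ hy))
    · rw [T.e_lie hx, zero_add]
      by_cases hij : i = j
      · subst hij
        have := lie_mem (e_mem b i) hy
        rw [add_sub_cancel] at this
        exact Submodule.mem_sup_left this
      · rw [T.e_lie_second hij hy]; exact zero_mem _

/-- A three dimensional stable subspace. -/
theorem threeDim (T : Top b ρ j) {W : Submodule K L} (h3 : finrank K W = 3) (hW : Stable b W) :
    Wt ρ ⊔ Wt (ρ - α j) ≤ W ∧ ∃ i, i ≠ j ∧ b.A i j ≠ 0 ∧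
      W = Wt ρ ⊔ Wt (ρ - α j) ⊔ Wt (ρ - α j - α i) ∧
      ∃ w ∈ Wt (ρ - α j - α i), w ≠ (0 : L) ∧ ⁅b.e i, w⁆ ≠ 0 ∧ ⁅b.e j, w⁆ = 0 := by
  classical
  obtain ⟨v, a, hv, hv0, ha, ha0, -, -⟩ := T.exists_second
  have hne : W ≠ ⊥ := fun h => by rw [h, finrank_bot] at h3; omega
  have hne' : ¬ W ≤ Wt ρ := fun h => by
    have := Submodule.finrank_mono h
    rw [h3, finrank_wt T.rho_ne hv hv0] at this
    omega
  have hle : Wt ρ ⊔ Wt (ρ - α j) ≤ W := sup_le (hW.rho_le T hne) (hW.line_le T hne hne')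
  obtain ⟨μ, w, hwW, hwP, hμ, he⟩ := hW.exists_ext T (P := Wt ρ ⊔ Wt (ρ - α j)) fun h => by
    have := Submodule.finrank_mono h
    rw [h3, T.finrank_line] at this
    omega
  have hw0 : w ≠ 0 := fun h => hwP (h ▸ zero_mem _)
  obtain ⟨i, hi⟩ : ∃ i, ⁅b.e i, w⁆ ≠ 0 := by
    by_contra hn
    push Not at hn
    exact hwP (Submodule.mem_sup_left (T.eq_of_killed hμ hw0 hn ▸ hμ))
  -- the raised weight is one of `ρ`, `ρ - α j`
  have hwt : μ + α i = ρ ∨ μ + α i = ρ - α j := by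
    by_contra hn
    push Not at hn
    obtain ⟨x, hx, y, hy, hxy⟩ := Submodule.mem_sup.mp (he i)
    have hm := lie_mem (e_mem b i) hμ
    rw [← hxy, add_comm (α i) μ] at hm
    let s : Set (H → K) := {(ρ : H → K), ((ρ - α j : Dual K H) : H → K)}
    have hd : Disjoint (rootSpace H ((μ + α i : Dual K H) : H → K)) (⨆ χ ∈ s, rootSpace H χ) :=
      (iSupIndep_genWeightSpace K H L).disjoint_biSup fun h => by
        rcases h with h | h
        · exact hn.1 (DFunLike.coe_injective h)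
        · exact hn.2 (DFunLike.coe_injective h)
    have hm2 : x + y ∈ ⨆ χ ∈ s, rootSpace H χ :=
      add_mem (LieSubmodule.mem_iSup_of_mem _ (LieSubmodule.mem_iSup_of_mem (Or.inl rfl) hx))
        (LieSubmodule.mem_iSup_of_mem _ (LieSubmodule.mem_iSup_of_mem (Or.inr rfl) hy))
    have hm3 : x + y ∈ rootSpace H ((μ + α i : Dual K H) : H → K) ⊓ ⨆ χ ∈ s, rootSpace H χ :=
      ⟨hm, hm2⟩
    rw [hd.eq_bot, LieSubmodule.mem_bot] at hm3
    exact hi (hxy ▸ hm3)
  have hμ2 : μ = ρ - α j - α i := by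
    rcases hwt with h | h
    · exfalso
      have hμ1 : μ = ρ - α i := eq_sub_of_add_eq h
      by_cases hij : i = j
      · subst hij; exact hwP (Submodule.mem_sup_right (hμ1 ▸ hμ))
      · exact hw0 (T.eq_zero_of_one hij (hμ1 ▸ hμ))
    · exact eq_sub_of_add_eq h
  subst hμ2
  have hij : i ≠ j := fun h => hw0 (by subst h; exact T.eq_zero_of_double hμ)
  have hej : ⁅b.e j, w⁆ = 0 := T.eq_zero_of_one hij (by
    have := lie_mem (e_mem b j) hμ
    rwa [add_comm, sub_right_comm, sub_add_cancel] at this)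
  refine ⟨hle, i, hij, fun hA => hw0 (T.eq_zero_of_adj hij hA hμ), ?_, w, hμ, hw0, hi, hej⟩
  have hne2 : (ρ - α j - α i) ≠ 0 := fun h => by
    have hρ : ρ = α j + α i := by rw [← sub_eq_zero, ← sub_sub]; exact h
    have h4 : (α j + α i) (b.h' i) = 0 := hρ ▸ not_not.mp fun h' => hij ((T.orth i).mp h')
    have : IsAddTorsionFree L := IsAddTorsionFree.of_isTorsionFree K L
    rw [LinearMap.add_apply, b.baseSupp_apply_h', b.baseSupp_apply_h', b.A_diag_eq_two] at h4
    have hk := pow_e_ne_zero (e_mem b j) (b.sl2 j).e_ne_zero i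
      (by rw [← lie_skew, b.lie_e_f_ne j i (Ne.symm hij), neg_zero]) (n := 2)
      (by rw [b.baseSupp_apply_h']; push_cast at h4 ⊢; linear_combination h4)
    refine hk ?_
    rw [pow_two, Module.End.mul_apply]
    refine T.eq_zero_of_mem (i := i) ?_
    have := lie_mem (e_mem b i) (lie_mem (e_mem b i) (e_mem b j))
    rwa [show α i + (α i + α j) = ρ + α i by rw [hρ]; abel] at this
  refine (Submodule.eq_of_le_of_finrank_eq (sup_le hle ?_) ?_).symm
  · rw [eq_span hne2 hμ hw0]; exact (Submodule.span_singleton_le_iff_mem _ _).mpr hwW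
  · rw [h3, eq_span hne2 hμ hw0]
    have := Submodule.finrank_sup_add_finrank_inf_eq (Wt ρ ⊔ Wt (ρ - α j) : Submodule K L)
      (Submodule.span K {w})
    rw [(Submodule.disjoint_span_singleton' hw0).mpr hwP |>.eq_bot, finrank_bot, add_zero,
      T.finrank_line, finrank_span_singleton hw0] at this
    exact this

end Groth.Agent.AdjVarX
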