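import Mathlib
import Groth.Agent.AdjVarX.Stable

/-!
# Borel semi-invariant conics
-/

noncomputable section

open LieAlgebra LieModule Module

namespace Groth.Agent.AdjVarX

universe u v w

variable {ι : Type u} {K : Type v} {L : Type w} [Fintype ι] [Field K] [CharZero K]
  [IsAlgClosed K] [LieRing L] [LieAlgebra K L] [FiniteDimensional K L] [LieAlgebra.IsSimple K L]
  {H : LieSubalgebra K L} [H.IsCartanSubalgebra] {b : LieAlgebra.Basis ι H}
  {ρ : Dual K H} {j : ι}

local notation "α" => LieAlgebra.Basis.baseSupp b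

theorem conic (T : Top b ρ j) (W : Submodule K L) (h3 : finrank K W = 3)
    (hst : ∀ x ∈ H.toSubmodule ⊔ (b.borelUpper : Submodule K L), ∀ w ∈ W, ⁅x, w⁆ ∈ W)
    (q : QuadraticForm K W)
    (hq : ∀ (x : L) (hx : x ∈ H.toSubmodule ⊔ (b.borelUpper : Submodule K L)), ∃ c : K, ∀ w : W,
      QuadraticMap.polar q ⟨⁅x, (w : L)⁆, hst x hx w w.property⟩ w = c * q w) :
    ∃ (ℓ : Module.Dual K W) (c : K), ∀ w : W, q w = c * ℓ w ^ 2 := by
  classical
  obtain ⟨hle, i, hij, -, hWeq, t₀, ht, ht0, het, hejt⟩ := threeDim T h3 (W := W) hst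
  obtain ⟨r, a, hr, hr0, ha, ha0, -, -⟩ := T.exists_second
  -- the basis of raisings of the lowest vector
  have hs' : ⁅b.e i, t₀⁆ ∈ Wt (ρ - α j) := by
    have := lie_mem (e_mem b i) ht
    rwa [add_sub_cancel] at this
  set s := ⁅b.e i, t₀⁆ with hsdef
  have hv : ⁅b.e j, s⁆ ∈ Wt ρ := by
    have := lie_mem (e_mem b j) hs'
    rwa [add_sub_cancel] at this
  set v := ⁅b.e j, s⁆ with hvdef
  have hv0 : v ≠ 0 := fun h0 => by
    have := T.eq_of_killed hs' het fun l => by
      by_cases hl : l = j
      · subst hl; exact h0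
      · exact T.e_lie_second hl hs'
    exact T.rho1_ne_rho this
  have hspan : W = Submodule.span K {v, s, t₀} := by
    refine hWeq.trans ?_
    rw [eq_span T.rho_ne hv hv0, eq_span T.rho1_ne hs' het, Submodule.span_insert,
      Submodule.span_insert, sup_assoc]
    congr 2
    refine le_antisymm (fun x hx => ?_) ?_
    · by_cases hz : (ρ - α j - α i) = 0
      · -- `W` has dimension three, so no room beyond one line
        have hlt : finrank K (Wt (ρ - α j - α i) : Submodule K L) ≤ 1 := by
          have hd : Disjoint (Wt ρ ⊔ Wt (ρ - α j) : Submodule K L) (Wt (ρ - α j - α i)) := by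
            rw [disjoint_iff, Submodule.eq_bot_iff]
            rintro z ⟨hz1, hz2⟩
            obtain ⟨y, hy, y', hy', rfl⟩ := Submodule.mem_sup.mp hz1
            have h1 : ⁅((b.h' j : H) : L), y + y'⁆ = 0 := by
              rw [lie_eq hz2, hz, LinearMap.zero_apply, zero_smul]
            rw [lie_add, lie_eq hy, lie_eq hy', T.pair, T.apply_h_j, one_smul, neg_one_smul,
              add_neg_eq_zero] at h1
            subst h1
            by_contra hne
            exact T.rho1_ne_rho (eq_of_mem hy' hy fun h => hne (by rw [h, add_zero]))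
          have := Submodule.finrank_sup_add_finrank_inf_eq (Wt ρ ⊔ Wt (ρ - α j) : Submodule K L)
            (Wt (ρ - α j - α i))
          rw [hd.eq_bot, finrank_bot, add_zero, ← hWeq, h3, T.finrank_line] at this
          omega
        have h1 : finrank K (Wt (ρ - α j - α i) : Submodule K L) = 1 :=
          le_antisymm hlt (Submodule.one_le_finrank_iff.mpr
            ((Submodule.ne_bot_iff _).mpr ⟨t₀, ht, ht0⟩))
        rwa [eq_span_singleton_of_mem_of_finrank_eq_one h1 ht ht0] at hx
      · rwa [eq_span hz ht ht0] at hx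
    · exact (Submodule.span_singleton_le_iff_mem _ _).mpr ht
  have hvW : v ∈ W := hspan ▸ Submodule.subset_span (by simp)
  have hsW : s ∈ W := hspan ▸ Submodule.subset_span (by simp)
  have htW : t₀ ∈ W := hspan ▸ Submodule.subset_span (by simp)
  let V : W := ⟨v, hvW⟩
  let S : W := ⟨s, hsW⟩
  let T₀ : W := ⟨t₀, htW⟩
  let B := QuadraticMap.polar q
  have hexp : ∀ x y z : K, q (x • V + y • S + z • T₀) = x * x * q V + y * y * q S + z * z * q T₀
      + x * y * B V S + x * z * B V T₀ + y * z * B S T₀ := by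
    intro x y z
    rw [QuadraticMap.map_add (⇑q), QuadraticMap.map_add (⇑q), q.polar_add_left, q.polar_smul_left, q.polar_smul_left,
      q.polar_smul_left, q.polar_smul_right, q.polar_smul_right, q.polar_smul_right,
      QuadraticMap.map_smul, QuadraticMap.map_smul, QuadraticMap.map_smul]
    simp only [smul_eq_mul, B]
    ring
  have hbl : ∀ y x' y' z' : K, B (y • V) (x' • V + y' • S + z' • T₀) =
      2 * (y * x') * q V + y * y' * B V S + y * z' * B V T₀ := by
    intro y x' y' z'
    simp only [B, q.polar_add_right, q.polar_smul_left, q.polar_smul_right, q.polar_self,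
      smul_eq_mul, nsmul_eq_mul, Nat.cast_ofNat]
    ring
  have hbl' : ∀ z x' y' z' : K, B (z • S) (x' • V + y' • S + z' • T₀) =
      z * x' * B V S + 2 * (z * y') * q S + z * z' * B S T₀ := by
    intro z x' y' z'
    simp only [B, q.polar_add_right, q.polar_smul_left, q.polar_smul_right, q.polar_self,
      QuadraticMap.polar_comm q S V, smul_eq_mul, nsmul_eq_mul, Nat.cast_ofNat]
    ring
  obtain ⟨c, hc⟩ := hq (b.e j) (Submodule.mem_sup_right (LieSubalgebra.subset_lieSpan ⟨j, rfl⟩))
  obtain ⟨d, hd⟩ := hq (b.e i) (Submodule.mem_sup_right (LieSubalgebra.subset_lieSpan ⟨i, rfl⟩))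
  have hejv : ∀ x y z : K,
      ⁅b.e j, ((x • V + y • S + z • T₀ : W) : L)⁆ = ((y • V : W) : L) := fun x y z => by
    simp only [Submodule.coe_add, Submodule.coe_smul, lie_add, lie_smul]
    rw [T.e_lie hv, hejt]
    simp [V, S, ← hvdef]
  have heiv : ∀ x y z : K,
      ⁅b.e i, ((x • V + y • S + z • T₀ : W) : L)⁆ = ((z • S : W) : L) := fun x y z => by
    simp only [Submodule.coe_add, Submodule.coe_smul, lie_add, lie_smul]
    rw [T.e_lie hv, T.e_lie_second hij hs']
    simp [S, T₀, ← hsdef]
  have E : ∀ x y z : K, 2 * (y * x) * q V + y * y * B V S + y * z * B V T₀ =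
      c * (x * x * q V + y * y * q S + z * z * q T₀
        + x * y * B V S + x * z * B V T₀ + y * z * B S T₀) := fun x y z => by
    rw [← hbl, ← hexp, ← hc]
    congr 1
    exact Subtype.ext (hejv x y z).symm
  have E' : ∀ x y z : K, z * x * B V S + 2 * (z * y) * q S + z * z * B S T₀ =
      d * (x * x * q V + y * y * q S + z * z * q T₀
        + x * y * B V S + x * z * B V T₀ + y * z * B S T₀) := fun x y z => by
    rw [← hbl', ← hexp, ← hd]
    congr 1
    exact Subtype.ext (heiv x y z).symm
  have key : q V = 0 ∧ B V S = 0 ∧ B V T₀ = 0 ∧ q S = 0 ∧ B S T₀ = 0 := by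
    have a1 := E 1 0 0; have a2 := E 0 0 1; have a3 := E 0 1 0; have a4 := E 1 1 0
    have a5 := E 0 1 1; have a6 := E 1 0 1
    have b1 := E' 1 0 0; have b2 := E' 0 0 1; have b3 := E' 0 1 0; have b4 := E' 1 1 0
    have b5 := E' 0 1 1; have b6 := E' 1 0 1
    simp only [mul_zero, zero_mul, add_zero, zero_add, mul_one, one_mul] at a1 a2 a3 a4 a5 a6 b1 b2 b3 b4 b5 b6
    have hV : q V = 0 ∧ B V S = 0 := by
      by_cases hc0 : c = 0
      · subst hc0
        have h1 : B V S = 0 := by linear_combination a3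
        exact ⟨mul_left_cancel₀ (two_ne_zero' K) (by linear_combination a4 - a3), h1⟩
      · have h1 : q V = 0 := (mul_eq_zero.mp a1.symm).resolve_left hc0
        have hh : c * B V S = 0 := by linear_combination -a4 + a3 + a1 + 2 * h1
        exact ⟨h1, (mul_eq_zero.mp hh).resolve_left hc0⟩
    obtain ⟨hV0, hVS⟩ := hV
    simp only [hV0, hVS, mul_zero, zero_mul, add_zero, zero_add] at a1 a2 a3 a4 a5 a6 b1 b2 b3 b4 b5 b6
    by_cases hd0 : d = 0
    · subst hd0
      have h1 : B S T₀ = 0 := by linear_combination b2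
      have h2 : q S = 0 := mul_left_cancel₀ (two_ne_zero' K) (by linear_combination b5 - b2)
      refine ⟨hV0, hVS, ?_, h2, h1⟩
      simp only [h1, h2, mul_zero, zero_mul, add_zero, zero_add] at a1 a2 a3 a4 a5 a6
      linear_combination a5 - a2 - a3
    · have h2 : q S = 0 := by
        have hh : d * q S = 0 := by linear_combination -b3
        exact (mul_eq_zero.mp hh).resolve_left hd0
      have h1 : B S T₀ = 0 := by
        have hh : d * B S T₀ = 0 := by linear_combination -b5 + b2 + b3 + 2 * h2
        exact (mul_eq_zero.mp hh).resolve_left hd0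
      refine ⟨hV0, hVS, ?_, h2, h1⟩
      have hh : d * B V T₀ = 0 := by linear_combination -b6 + b2 + b1
      exact (mul_eq_zero.mp hh).resolve_left hd0
  obtain ⟨k1, k2, k3, k4, k5⟩ := key
  -- the coordinate along the lowest vector
  have hall : ∀ w : W, ∃ x y z : K, w = x • V + y • S + z • T₀ := by
    rintro ⟨w, hw⟩
    obtain ⟨x, w₁, h₁, hw'⟩ := Submodule.mem_span_insert.mp (hspan ▸ hw)
    obtain ⟨y, w₂, h₂, rfl⟩ := Submodule.mem_span_insert.mp h₁
    obtain ⟨z, rfl⟩ := Submodule.mem_span_singleton.mp h₂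
    exact ⟨x, y, z, Subtype.ext (by simp [V, S, T₀, hw', add_assoc])⟩
  have hz : T₀ ∉ Submodule.span K {V, S} := fun hm => by
    have hle2 : W ≤ Submodule.span K {v, s} := by
      rw [hspan]
      refine Submodule.span_le.mpr ?_
      rintro x (rfl | rfl | rfl)
      · exact Submodule.subset_span (by simp)
      · exact Submodule.subset_span (by simp)
      · obtain ⟨x', y', h'⟩ := Submodule.mem_span_pair.mp hm
        exact Submodule.mem_span_pair.mpr ⟨x', y', congrArg Subtype.val h'⟩
    have hcard : finrank K (Submodule.span K ({v, s} : Set L)) ≤ 2 := by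
      have hh := finrank_span_finset_le_card (R := K) ({v, s} : Finset L)
      rw [Set.finrank, Finset.coe_pair] at hh
      exact hh.trans Finset.card_le_two
    have := Submodule.finrank_mono hle2
    omega
  obtain ⟨ℓ, hℓ1, hℓ⟩ := Submodule.exists_dual_map_eq_bot_of_notMem hz inferInstance
  have hker : ∀ m ∈ Submodule.span K ({V, S} : Set W), ℓ m = 0 := fun m hm => by
    have : ℓ m ∈ (Submodule.span K ({V, S} : Set W)).map ℓ := ⟨m, hm, rfl⟩
    rwa [hℓ, Submodule.mem_bot] at this
  have hV' : ℓ V = 0 := hker _ (Submodule.subset_span (by simp))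
  have hS' : ℓ S = 0 := hker _ (Submodule.subset_span (by simp))
  refine ⟨ℓ, q T₀ / (ℓ T₀) ^ 2, fun w => ?_⟩
  obtain ⟨x, y, z, rfl⟩ := hall w
  rw [hexp, k1, k2, k3, k4, k5]
  simp only [map_add, map_smul, hV', hS', smul_eq_mul]
  field_simp
  ring

end Groth.Agent.AdjVarX
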