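import Mathlib
import Groth.Agent.AdjVarX.Stable

/-!
# The subalgebra generated by a conic and a line on the adjoint variety

The five dimensional subalgebra `sl₂ ⋉ K²` generated by the root spaces of `ρ`, `-ρ`, `ρ - α j`.
-/

noncomputable section

open LieAlgebra LieModule Module

namespace Groth.Agent.AdjVarX

universe u v w

variable {ι : Type u} {K : Type v} {L : Type w} [Fintype ι] [Field K] [CharZero K]
  [IsAlgClosed K] [LieRing L] [LieAlgebra K L] [FiniteDimensional K L] [LieAlgebra.IsSimple K L]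
  {H : LieSubalgebra K L} [H.IsCartanSubalgebra] {b : LieAlgebra.Basis ι H}
  {ρ : Dual K H} {j : ι}

local notation "α" => LieAlgebra.Basis.baseSupp b

omit [Field K] [CharZero K] [IsAlgClosed K] [LieRing L] [LieAlgebra K L] [FiniteDimensional K L]
  [LieAlgebra.IsSimple K L] in
/-- Brackets of spans. -/
theorem span_lie_mem {K : Type v} {L : Type w} [Field K] [LieRing L] [LieAlgebra K L]
    {s t : Set L} (P : Submodule K L) (h : ∀ x ∈ s, ∀ y ∈ t, ⁅x, y⁆ ∈ P) {x y : L}
    (hx : x ∈ Submodule.span K s) (hy : y ∈ Submodule.span K t) : ⁅x, y⁆ ∈ P := by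
  induction hx using Submodule.span_induction with
  | mem x hx =>
    induction hy using Submodule.span_induction with
    | mem y hy => exact h x hx y hy
    | zero => rw [lie_zero]; exact zero_mem _
    | add y z _ _ hy hz => rw [lie_add]; exact add_mem hy hz
    | smul c y _ hy => rw [lie_smul]; exact P.smul_mem c hy
  | zero => rw [zero_lie]; exact zero_mem _
  | add x z _ _ hx hz => rw [add_lie]; exact add_mem hx hz
  | smul c x _ hx => rw [smul_lie]; exact P.smul_mem c hx

/-- `2ρ - α j` is no root. -/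
theorem Top.eq_zero_of_two (T : Top b ρ j) {w : L} (hw : w ∈ Wt (ρ + (ρ - α j))) : w = 0 := by
  by_contra hw0
  obtain ⟨n, hn⟩ := T.exists_drop hw hw0
  obtain ⟨m, hm⟩ := T.exists_drop (e_mem b j) (b.sl2 j).e_ne_zero
  have h0 : drop b ρ (n + m) = drop b ρ 0 := by
    simp only [drop, Pi.add_apply, Nat.cast_add, add_smul, Finset.sum_add_distrib, Pi.zero_apply,
      Nat.cast_zero, zero_smul, Finset.sum_const_zero, sub_zero] at hn hm ⊢
    linear_combination (norm := module) -hn - hm
  have hm0 : m = 0 := funext fun i => by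
    have := congrFun (drop_inj b h0) i
    simp only [Pi.add_apply, Pi.zero_apply] at this ⊢
    omega
  rw [hm0, drop_zero] at hm
  have := T.apply_h_j
  rw [hm, sub_self, LinearMap.zero_apply] at this
  norm_num at this

/-- The subalgebra generated by the root spaces of `ρ`, `-ρ` and `ρ - α j`. -/
theorem lieSpan_conic_line (T : Top b ρ j) (A : LieSubalgebra K L)
    (hA : A = LieSubalgebra.lieSpan K L
      ((Wt ρ : Set L) ∪ (Wt (-ρ) : Set L) ∪ (Wt (ρ - α j) : Set L))) :
    finrank K A = 5 ∧ finrank K (LieAlgebra.radical K A) = 2 ∧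
      (LieAlgebra.radical K A).toSubmodule.map (A.incl : A →ₗ⁅K⁆ L).toLinearMap =
        Wt (ρ - α j) ⊔ Wt (-α j) := by
  classical
  obtain ⟨v, a, hv, hv0, ha, ha0, hja, -⟩ := T.exists_second
  let R : Weight K H L := ⟨(ρ : H → K), fun h => hv0 (by
    have h' : v ∈ genWeightSpace L (ρ : H → K) := hv
    rwa [h, LieSubmodule.mem_bot] at h')⟩
  have hR : R.IsNonZero := fun h => T.rho_ne (DFunLike.coe_injective h)
  obtain ⟨h₀, e, f, ht, heR, hfR⟩ := LieAlgebra.IsKilling.exists_isSl2Triple_of_weight_isNonZero hR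
  have he : e ∈ Wt ρ := heR
  have hf : f ∈ Wt (-ρ) := hfR
  let h' : H := LieAlgebra.IsKilling.coroot R
  have hh' : h₀ = (h' : L) := ht.h_eq_coroot hR heR hfR
  subst hh'
  have hρ2 : ρ h' = 2 := LieAlgebra.IsKilling.root_apply_coroot hR
  -- the fifth vector
  set c : L := ⁅f, a⁆ with hc
  have hcw : c ∈ Wt (-α j) := by
    have := lie_mem hf ha
    rwa [show -ρ + (ρ - α j) = -α j by abel] at this
  have hWtρ : Wt ρ = Submodule.span K {v} := eq_span T.rho_ne hv hv0
  have hc0 : c ≠ 0 := fun h0 => ht.f_ne_zero <| by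
    refine eq_zero_of_killing hf fun u hu => ?_
    rw [neg_neg, hWtρ, Submodule.mem_span_singleton] at hu
    obtain ⟨t, rfl⟩ := hu
    have h1 : killingForm K L c (b.e j) = killingForm K L f ⁅a, b.e j⁆ :=
      LieModule.traceForm_apply_lie_apply K L L f a (b.e j)
    rw [h0, map_zero, LinearMap.zero_apply, ← lie_skew, hja, map_neg] at h1
    rw [map_smul, neg_eq_zero.mp h1.symm, smul_zero]
  have hea : ⁅e, a⁆ = 0 := T.eq_zero_of_two (lie_mem he ha)
  have hfc : ⁅f, c⁆ = 0 := neg_wt_eq_bot (μ := ρ + α j) (fun x hx => T.eq_zero_of_mem hx) _ (by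
    have := lie_mem hf hcw
    rwa [← neg_add] at this)
  have hac : ⁅a, c⁆ = 0 := T.eq_zero_of_double (by
    have := lie_mem ha hcw
    rwa [← sub_eq_add_neg] at this)
  have hef : ⁅e, f⁆ = (h' : L) := ht.lie_e_f
  have hha₀ : ⁅(h' : L), a⁆ = (ρ - α j) h' • a := lie_eq ha h'
  have hhc₀ : ⁅(h' : L), c⁆ = (-α j) h' • c := lie_eq hcw h'
  have hec₀ : ⁅e, c⁆ = (ρ - α j) h' • a := by
    rw [hc, leibniz_lie, hef, hea, lie_zero, add_zero, hha₀]
  have hlam : (ρ - α j) h' = 1 := by
    have h1 : ⁅f, ⁅e, c⁆⁆ = -(-α j) h' • c := by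
      rw [leibniz_lie, ← lie_skew f e, hef, hfc, lie_zero, add_zero, neg_lie, hhc₀, neg_smul]
    rw [hec₀, lie_smul] at h1
    have h2 := smul_left_injective K hc0 h1
    simp only [LinearMap.sub_apply, LinearMap.neg_apply, hρ2] at h2 ⊢
    linear_combination h2 / 2
  have hneg : (-α j) h' = -1 := by
    simp only [LinearMap.sub_apply, LinearMap.neg_apply, hρ2] at hlam ⊢
    linear_combination hlam
  have hha : ⁅(h' : L), a⁆ = a := by rw [hha₀, hlam, one_smul]
  have hhc : ⁅(h' : L), c⁆ = -c := by rw [hhc₀, hneg, neg_one_smul]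
  have hec : ⁅e, c⁆ = a := by rw [hec₀, hlam, one_smul]
  have hhe : ⁅(h' : L), e⁆ = (2 : K) • e := by rw [lie_eq he h', hρ2]
  have hhf : ⁅(h' : L), f⁆ = -((2 : K) • f) := by
    rw [lie_eq hf h', LinearMap.neg_apply, hρ2, neg_smul]
  have hfa : ⁅f, a⁆ = c := hc.symm
  have heh : ⁅e, (h' : L)⁆ = -((2 : K) • e) := by rw [← lie_skew, hhe]
  have hfh : ⁅f, (h' : L)⁆ = (2 : K) • f := by rw [← lie_skew, hhf, neg_neg]
  have hfe : ⁅f, e⁆ = -(h' : L) := by rw [← lie_skew, hef]
  have hae : ⁅a, e⁆ = 0 := by rw [← lie_skew, hea, neg_zero]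
  have hcf : ⁅c, f⁆ = 0 := by rw [← lie_skew, hfc, neg_zero]
  have hca : ⁅c, a⁆ = 0 := by rw [← lie_skew, hac, neg_zero]
  have hah : ⁅a, (h' : L)⁆ = -a := by rw [← lie_skew, hha]
  have hch : ⁅c, (h' : L)⁆ = c := by rw [← lie_skew, hhc, neg_neg]
  have haf : ⁅a, f⁆ = -c := by rw [← lie_skew, hfa]
  have hce : ⁅c, e⁆ = -a := by rw [← lie_skew, hec]
  -- the five dimensional space
  let S : Fin 5 → L := ![e, h', f, a, c]
  let M : Submodule K L := Submodule.span K (Set.range S)
  have hS : ∀ i, S i ∈ M := fun i => Submodule.subset_span ⟨i, rfl⟩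
  have heM : e ∈ M := hS 0
  have hhM : (h' : L) ∈ M := hS 1
  have hfM : f ∈ M := hS 2
  have haM : a ∈ M := hS 3
  have hcM : c ∈ M := hS 4
  have hclosed : ∀ {x y : L}, x ∈ M → y ∈ M → ⁅x, y⁆ ∈ M := by
    intro x y hx hy
    refine span_lie_mem M ?_ hx hy
    rintro _ ⟨i, rfl⟩ _ ⟨k, rfl⟩
    fin_cases i <;> fin_cases k <;>
      simp [S, hea, hae, hfc, hcf, hac, hca, hef, hfe, hha, hah, hhc, hch, hec, hce, hfa, haf,
        hhe, hhf, heh, hfh, heM, hhM, hfM, haM, hcM, Submodule.smul_mem]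
  have hWtnρ : Wt (-ρ) = Submodule.span K {f} := eq_span (neg_ne_zero.mpr T.rho_ne) hf ht.f_ne_zero
  have hWta : Wt (ρ - α j) = Submodule.span K {a} := eq_span T.rho1_ne ha ha0
  have hWtc : Wt (-α j) = Submodule.span K {c} := eq_span (fun h0 => by
    rw [h0, LinearMap.zero_apply] at hneg; norm_num at hneg) hcw hc0
  have hAM : A.toSubmodule = M := by
    refine le_antisymm ?_ (Submodule.span_le.mpr ?_)
    · have h1 : A ≤ ({ M with lie_mem' := fun hx hy => hclosed hx hy } : LieSubalgebra K L) := by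
        rw [hA, LieSubalgebra.lieSpan_le]
        rintro x ((hx | hx) | hx) <;> change x ∈ M
        · rw [SetLike.mem_coe, eq_span T.rho_ne he ht.e_ne_zero] at hx
          exact (Submodule.span_singleton_le_iff_mem _ _).mpr heM hx
        · rw [SetLike.mem_coe, hWtnρ] at hx
          exact (Submodule.span_singleton_le_iff_mem _ _).mpr hfM hx
        · rw [SetLike.mem_coe, hWta] at hx
          exact (Submodule.span_singleton_le_iff_mem _ _).mpr haM hx
      exact fun x hx => h1 hx
    · have he' : e ∈ A := hA ▸ LieSubalgebra.subset_lieSpan (Or.inl (Or.inl he))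
      have hf' : f ∈ A := hA ▸ LieSubalgebra.subset_lieSpan (Or.inl (Or.inr hf))
      have ha' : a ∈ A := hA ▸ LieSubalgebra.subset_lieSpan (Or.inr ha)
      rintro _ ⟨i, rfl⟩
      fin_cases i
      · exact he'
      · have := A.lie_mem he' hf'
        rwa [hef] at this
      · exact hf'
      · exact ha'
      · exact A.lie_mem hf' ha'
  have hmem : ∀ {x : L}, x ∈ A ↔ x ∈ M := fun {x} => by rw [← hAM]; rfl
  -- independence
  have hli : LinearIndependent K S := by
    refine Module.End.eigenvectors_linearIndependent' (LieAlgebra.ad K L (h' : L))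
      ![(2 : K), 0, -2, 1, -1] ?_ S fun i => ?_
    · intro i k hik
      fin_cases i <;> fin_cases k <;> simp at hik ⊢ <;> norm_num at hik
    · rw [Module.End.hasEigenvector_iff, Module.End.mem_eigenspace_iff]
      fin_cases i <;>
        simp [S, LieAlgebra.ad_apply, hhe, hhf, hha, hhc, ht.e_ne_zero, ht.f_ne_zero, ha0, hc0,
          ht.h_ne_zero]
  have h5 : finrank K A = 5 := by
    have h := finrank_span_eq_card hli
    rw [Fintype.card_fin] at h
    rw [← h]
    change finrank K A.toSubmodule = _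
    rw [hAM]
  -- the radical
  let P : Submodule K L := Submodule.span K (Set.range ![a, c])
  have hP : P = Wt (ρ - α j) ⊔ Wt (-α j) := by
    rw [hWta, hWtc, ← Submodule.span_union]
    simp [P, Matrix.range_cons, Set.pair_comm, Set.union_comm]
  have haP : a ∈ P := Submodule.subset_span ⟨0, rfl⟩
  have hcP : c ∈ P := Submodule.subset_span ⟨1, rfl⟩
  have hP2 : finrank K P = 2 := by
    have h := hli.comp ![3, 4] (by decide)
    rw [show S ∘ ![3, 4] = ![a, c] from funext fun i => by fin_cases i <;> rfl] at h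
    simpa [P] using finrank_span_eq_card h
  have hPM : P ≤ M := Submodule.span_le.mpr (by
    rintro _ ⟨i, rfl⟩; fin_cases i <;> simp [haM, hcM])
  have hMP : ∀ {x r : L}, x ∈ M → r ∈ P → ⁅x, r⁆ ∈ P := by
    intro x r hx hr
    refine span_lie_mem P ?_ hx hr
    rintro _ ⟨i, rfl⟩ _ ⟨k, rfl⟩
    fin_cases i <;> fin_cases k <;>
      simp [S, hea, hfc, hac, hca, hha, hhc, hec, hfa, haP, hcP]
  let I : LieIdeal K A :=
    { P.comap A.incl.toLinearMap with
      lie_mem := fun {x m} hm => hMP (hmem.mp x.property) hm }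
  have hIab : IsLieAbelian I := ⟨fun x y => by
    have h := span_lie_mem (⊥ : Submodule K L) (s := Set.range ![a, c]) (t := Set.range ![a, c])
      (by rintro _ ⟨i, rfl⟩ _ ⟨k, rfl⟩; fin_cases i <;> fin_cases k <;> simp [hac, hca])
      x.property y.property
    exact Subtype.ext (Subtype.ext ((Submodule.mem_bot K).mp h))⟩
  set J := LieAlgebra.radical K A with hJ
  have hIJ : I ≤ J := (LieIdeal.solvable_iff_le_radical K A I).mp inferInstance
  let J' : Submodule K L := J.toSubmodule.map (A.incl : A →ₗ⁅K⁆ L).toLinearMap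
  have hPJ : P ≤ J' := fun r hr => ⟨⟨r, hmem.mpr (hPM hr)⟩, hIJ hr, rfl⟩
  have hJc : ∀ {y x : L}, y ∈ M → x ∈ J' → ⁅y, x⁆ ∈ J' := by
    rintro y _ hy ⟨x, hx, rfl⟩
    exact ⟨⁅(⟨y, hmem.mpr hy⟩ : A), x⁆, J.lie_mem hx, rfl⟩
  have hJe : e ∉ J' := by
    intro heJ
    have hhJ : (h' : L) ∈ J' := by
      rw [← neg_mem_iff, ← hfe]; exact hJc hfM heJ
    have hfJ : f ∈ J' := by
      have := hJc hfM hhJ
      rw [hfh] at this
      simpa using J'.smul_mem (2 : K)⁻¹ this
    have hMJ : M ≤ J' := Submodule.span_le.mpr (by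
      rintro _ ⟨i, rfl⟩
      fin_cases i
      exacts [heJ, hhJ, hfJ, hPJ haP, hPJ hcP])
    have htop : J = ⊤ := eq_top_iff.mpr fun x _ => by
      obtain ⟨y, hy, hyx⟩ := hMJ (hmem.mp x.property)
      rwa [← Subtype.ext (hyx : (y : L) = x)]
    have hsolv : IsSolvable A := by
      have : IsSolvable J := LieAlgebra.radicalIsSolvable K A
      rw [htop] at this
      exact (LieIdeal.topEquiv (R := K) (L := A)).surjective.lieAlgebra_isSolvable (f := (LieIdeal.topEquiv (R := K) (L := A)).toLieHom)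
    obtain ⟨k, hk⟩ := hsolv.solvable K
    let e' : A := ⟨e, hmem.mpr heM⟩
    let h'' : A := ⟨h', hmem.mpr hhM⟩
    let f' : A := ⟨f, hmem.mpr hfM⟩
    suffices ∀ n, e' ∈ derivedSeries K A n ∧ h'' ∈ derivedSeries K A n ∧ f' ∈ derivedSeries K A n by
      have h := (this k).1
      rw [hk, LieSubmodule.mem_bot] at h
      exact ht.e_ne_zero (congrArg Subtype.val h)
    intro n
    induction n with
    | zero => exact ⟨trivial, trivial, trivial⟩
    | succ n ih =>
      obtain ⟨h1, h2, h3⟩ := ih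
      rw [derivedSeries_def, derivedSeriesOfIdeal_succ, ← derivedSeries_def]
      refine ⟨?_, ?_, ?_⟩
      · rw [show e' = (2 : K)⁻¹ • ⁅h'', e'⁆ from Subtype.ext (by
          simp [e', h'', hhe])]
        exact SMulMemClass.smul_mem _ (LieSubmodule.lie_mem_lie h2 h1)
      · rw [show h'' = ⁅e', f'⁆ from Subtype.ext hef.symm]
        exact LieSubmodule.lie_mem_lie h1 h3
      · rw [show f' = (-2 : K)⁻¹ • ⁅h'', f'⁆ from Subtype.ext (by
          simp [f', h'', hhf])]
        exact SMulMemClass.smul_mem _ (LieSubmodule.lie_mem_lie h2 h3)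
  have hJP : J' = P := by
    refine le_antisymm (fun x hx => ?_) hPJ
    have hxM : x ∈ M := by
      obtain ⟨y, -, rfl⟩ := hx; exact hmem.mp y.property
    obtain ⟨k, rfl⟩ := (Submodule.mem_span_range_iff_exists_fun K).mp hxM
    simp only [Fin.sum_univ_five] at hx ⊢
    change k 0 • e + k 1 • (h' : L) + k 2 • f + k 3 • a + k 4 • c ∈ J' at hx
    change k 0 • e + k 1 • (h' : L) + k 2 • f + k 3 • a + k 4 • c ∈ P
    have h1 := hJc heM hx
    simp only [lie_add, lie_smul, lie_self, heh, hef, hea, hec, smul_zero, zero_add, add_zero] at h1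
    have h2 := hJc heM h1
    simp only [lie_add, lie_smul, lie_neg, lie_self, heh, hea, smul_zero, zero_add, add_zero,
      neg_zero] at h2
    have hk2 : k 2 = 0 := by
      by_contra hk
      refine hJe ?_
      have := J'.smul_mem (-(2 * k 2))⁻¹ h2
      convert this using 1
      rw [smul_neg, smul_smul, smul_neg, ← neg_smul, smul_smul]
      rw [show (-(-(2 * k 2))⁻¹ * (k 2 * 2)) = 1 by field_simp, one_smul]
    rw [hk2, zero_smul, add_zero] at h1 hx
    have hk1 : k 1 = 0 := by
      by_contra hk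
      refine hJe ?_
      have := J'.smul_mem (-(2 * k 1))⁻¹ (sub_mem h1 (J'.smul_mem (k 4) (hPJ haP)))
      convert this using 1
      rw [add_sub_cancel_right, smul_neg, smul_smul, smul_neg, smul_smul, ← neg_smul]
      rw [show -((-(2 * k 1))⁻¹ * (k 1 * 2)) = 1 by field_simp, one_smul]
    rw [hk1, zero_smul, add_zero] at hx
    have hk0 : k 0 = 0 := by
      by_contra hk
      refine hJe ?_
      have := J'.smul_mem (k 0)⁻¹
        (sub_mem (sub_mem hx (J'.smul_mem (k 4) (hPJ hcP))) (J'.smul_mem (k 3) (hPJ haP)))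
      rwa [add_sub_cancel_right, add_sub_cancel_right, smul_smul, inv_mul_cancel₀ hk,
        one_smul] at this
    rw [hk0, hk1, hk2]
    simp [add_mem, P.smul_mem _ haP, P.smul_mem _ hcP]
  refine ⟨h5, ?_, hJP.trans hP⟩
  have h := (Submodule.equivMapOfInjective (A.incl : A →ₗ⁅K⁆ L).toLinearMap
    Subtype.val_injective J.toSubmodule).finrank_eq
  change finrank K J = _ at h
  rw [h]
  change finrank K J' = 2
  rw [hJP, hP2]

end Groth.Agent.AdjVarX
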